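import Mathlib

/-!
Automorphisms whose order is a primitive prime divisor: irreducibility and centralisers.
-/

namespace Cfsg.Agent.Lib.Singer

variable {F V : Type*} [Field F] [Fintype F] [AddCommGroup V] [Module F V] [FiniteDimensional F V]

theorem natCast_ne_zero_of_orderOf {r n : ℕ} (hr : r.Prime) (hn : 0 < n)
    (hord : orderOf (Fintype.card F : ZMod r) = n) : (r : F) ≠ 0 := by
  intro h
  haveI : Fact r.Prime := ⟨hr⟩
  obtain ⟨p, hp⟩ := CharP.exists F
  haveI : Fact p.Prime := ⟨CharP.char_is_prime F p⟩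
  have hpr : p = r := (Nat.prime_dvd_prime_iff_eq (Fact.out) hr).mp ((CharP.cast_eq_zero_iff F p r).mp h)
  subst hpr
  obtain ⟨k, hp', hk⟩ := FiniteField.card F p
  have h0 : (Fintype.card F : ZMod p) = 0 := by
    rw [ZMod.natCast_eq_zero_iff, hk]
    exact dvd_pow_self p (by positivity)
  have h1 := pow_orderOf_eq_one (Fintype.card F : ZMod p)
  rw [hord, h0, zero_pow (by omega)] at h1
  exact zero_ne_one h1

/-- An endomorphism with `g ^ r = 1` in dimension less than the order of `q` modulo `r` is `1`. -/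
theorem eq_one_of_pow_eq_one {r n : ℕ} (hr : r.Prime) (hord : orderOf (Fintype.card F : ZMod r) = n)
    (hd : Module.finrank F V < n) (g : Module.End F V) (hg : g ^ r = 1) : g = 1 := by
  classical
  haveI : Fact r.Prime := ⟨hr⟩
  let u : (Module.End F V)ˣ := IsUnit.unit (IsUnit.of_pow_eq_one hg hr.ne_zero)
  suffices hu : u = 1 by simpa [u] using congrArg Units.val hu
  by_contra hne
  have hur : u ^ r = 1 := Units.ext (by simpa [u] using hg)
  have hord' : orderOf u = r := orderOf_eq_prime hur hne
  let e : (Module.End F V)ˣ ≃* GL (Fin (Module.finrank F V)) F :=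
    Units.mapEquiv (algEquivMatrix (Module.finBasis F V)).toMulEquiv
  have hdvd : r ∣ Nat.card (GL (Fin (Module.finrank F V)) F) := by
    rw [← hord', ← e.orderOf_eq u]
    exact orderOf_dvd_natCard _
  rw [Matrix.card_GL_field] at hdvd
  obtain ⟨i, -, hi⟩ := (hr.prime.dvd_finsetProd_iff _).mp hdvd
  have hile : (i : ℕ) ≤ Module.finrank F V := i.2.le
  have hq1 : 1 ≤ Fintype.card F := Fintype.card_pos
  have hi' : r ∣ Fintype.card F ^ (i : ℕ) * (Fintype.card F ^ (Module.finrank F V - i) - 1) := by
    rwa [Nat.mul_sub, mul_one, ← pow_add, Nat.add_sub_cancel' hile]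
  rcases hr.dvd_mul.mp hi' with h | h
  · have h0 : (Fintype.card F : ZMod r) = 0 := by
      rw [ZMod.natCast_eq_zero_iff]
      exact hr.dvd_of_dvd_pow h
    have h1 := pow_orderOf_eq_one (Fintype.card F : ZMod r)
    rw [hord, h0, zero_pow (by omega)] at h1
    exact zero_ne_one h1
  · have h1 : (Fintype.card F : ZMod r) ^ (Module.finrank F V - i) = 1 := by
      have := (ZMod.natCast_eq_zero_iff _ r).mpr h
      rwa [Nat.cast_sub (Nat.one_le_pow _ _ hq1), sub_eq_zero, Nat.cast_pow, Nat.cast_one] at this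
    have h2 := orderOf_dvd_of_pow_eq_one h1
    rw [hord] at h2
    have := Nat.le_of_dvd (by have := i.2; omega) h2
    omega

/-- An endomorphism of order a primitive prime divisor of `q ^ n - 1`, `n = dim V`, is irreducible. -/
theorem eq_bot_or_eq_top {r : ℕ} (hr : r.Prime) (hn : 0 < Module.finrank F V)
    (hord : orderOf (Fintype.card F : ZMod r) = Module.finrank F V) (u : Module.End F V)
    (hur : u ^ r = 1) (hu : u ≠ 1) (W : Submodule F V) (hW : W.map u ≤ W) : W = ⊥ ∨ W = ⊤ := by
  by_contra hc
  push Not at hc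
  obtain ⟨hbot, htop⟩ := hc
  have hmaps : ∀ x ∈ W, u x ∈ W := fun x hx => hW ⟨x, hx, rfl⟩
  let g : Module.End F W := u.restrict hmaps
  have hlt : Module.finrank F W < Module.finrank F V := Submodule.finrank_lt htop
  have hg : g = 1 := eq_one_of_pow_eq_one hr hord hlt g (by
    refine LinearMap.ext fun x => Subtype.ext ?_
    have h1 : ∀ k, ((g ^ k) x : V) = (u ^ k) (x : V) := by
      intro k
      induction k with
      | zero => rfl
      | succ k ih => rw [pow_succ', pow_succ', Module.End.mul_apply, Module.End.mul_apply, ← ih]; rfl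
    rw [h1, hur]; rfl)
  let h : Module.End F (V ⧸ W) := W.mapQ W u fun x hx => hmaps x hx
  have hltQ : Module.finrank F (V ⧸ W) < Module.finrank F V := by
    have h1 := W.finrank_quotient_add_finrank
    have : 0 < Module.finrank F W := by
      rw [Nat.pos_iff_ne_zero, ne_eq, Submodule.finrank_eq_zero]; exact hbot
    omega
  have hh : h = 1 := eq_one_of_pow_eq_one hr hord hltQ h (by
    refine LinearMap.ext fun x => ?_
    obtain ⟨x, rfl⟩ := W.mkQ_surjective x
    have h1 : ∀ k, (h ^ k) (W.mkQ x) = W.mkQ ((u ^ k) x) := by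
      intro k
      induction k with
      | zero => rfl
      | succ k ih => rw [pow_succ', pow_succ', Module.End.mul_apply, Module.End.mul_apply, ih]; rfl
    rw [h1, hur]; rfl)
  set N := u - 1 with hN
  have hNmem : ∀ x, N x ∈ W := by
    intro x
    have := LinearMap.congr_fun hh (W.mkQ x)
    exact (Submodule.Quotient.eq W).mp this
  have hNW : ∀ x ∈ W, N x = 0 := by
    intro x hx
    have := congrArg Subtype.val (LinearMap.congr_fun hg ⟨x, hx⟩)
    simpa [hN, g, sub_eq_zero] using this
  have hN2 : N * N = 0 := LinearMap.ext fun x => hNW _ (hNmem x)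
  have hpow : ∀ k : ℕ, (1 + N) ^ k = 1 + (k : F) • N := by
    intro k
    induction k with
    | zero => simp
    | succ k ih =>
      rw [pow_succ, ih, add_mul, one_mul, mul_add, mul_one, smul_mul_assoc, hN2, smul_zero, add_zero,
        Nat.cast_succ, add_smul, one_smul, add_assoc, add_comm N]
  have h0 : (r : F) • N = 0 := by
    have := hpow r
    rw [hN, add_sub_cancel, hur, eq_comm, add_eq_left] at this
    exact this
  rcases smul_eq_zero.mp h0 with h1 | h1
  · exact natCast_ne_zero_of_orderOf hr hn hord h1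
  · exact hu (sub_eq_zero.mp h1)

/-- The centraliser of such an element is a field with `q ^ n` elements, or at most that. -/
theorem exists_field_centralizer {r : ℕ} (hr : r.Prime) (hn : 0 < Module.finrank F V)
    (hord : orderOf (Fintype.card F : ZMod r) = Module.finrank F V) (u : Module.End F V)
    (hur : u ^ r = 1) (hu : u ≠ 1) :
    IsField (Subalgebra.centralizer F ({u} : Set (Module.End F V))) ∧
      Nat.card (Subalgebra.centralizer F ({u} : Set (Module.End F V))) ≤ Nat.card V := by
  haveI : Finite V := Module.finite_of_finite F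
  haveI : Nontrivial V := Module.finrank_pos_iff.mp hn
  haveI : Finite (Module.End F V) := Module.finite_of_finite F
  set C := Subalgebra.centralizer F ({u} : Set (Module.End F V))
  have hinj : ∀ c : C, c ≠ 0 → ∀ v, (c : Module.End F V) v = 0 → v = 0 := by
    intro c hc v hv
    have hcu : u * c = c * u := Subalgebra.mem_centralizer_iff F |>.mp c.2 u rfl
    rcases eq_bot_or_eq_top hr hn hord u hur hu (LinearMap.ker (c : Module.End F V)) (by
      rintro _ ⟨x, hx, rfl⟩
      rw [SetLike.mem_coe, LinearMap.mem_ker] at hx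
      rw [LinearMap.mem_ker]
      rw [← Module.End.mul_apply, ← hcu, Module.End.mul_apply, hx, map_zero]) with h | h
    · exact (Submodule.mem_bot F).mp (h ▸ LinearMap.mem_ker.mpr hv)
    · exact absurd (Subtype.ext (LinearMap.ker_eq_top.mp h)) hc
  haveI : IsDomain C := by
    haveI : NoZeroDivisors C := ⟨fun {a b} hab => by
      by_contra hc
      push Not at hc
      refine hc.2 (Subtype.ext (LinearMap.ext fun v => hinj a hc.1 _ ?_))
      exact LinearMap.congr_fun (congrArg Subtype.val hab) v⟩
    exact NoZeroDivisors.to_isDomain _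
  refine ⟨Finite.isDomain_to_isField C, ?_⟩
  obtain ⟨v, hv⟩ := exists_ne (0 : V)
  refine Nat.card_le_card_of_injective (fun c : C => (c : Module.End F V) v) fun a b hab => ?_
  by_contra hne
  exact hv (hinj (a - b) (sub_ne_zero.mpr hne) v (by simpa [sub_eq_zero] using hab))

omit [Fintype F] [FiniteDimensional F V] in
theorem prime_of_add_one_eq_two_pow {p e m : ℕ} (hp : p.Prime) (he : 0 < e)
    (h : p ^ e + 1 = 2 ^ m) : e = 1 := by
  have hp1 := hp.two_le
  have hm : 2 ≤ m := by
    rcases m with _ | _ | m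
    · have := Nat.pow_le_pow_right hp.pos he; simp at h; omega
    · have := Nat.pow_le_pow_right hp.pos he; simp at h; omega
    · omega
  rcases Nat.even_or_odd e with ⟨j, rfl⟩ | ⟨j, rfl⟩
  · exfalso
    obtain ⟨l, rfl⟩ : ∃ l, m = l + 2 := ⟨m - 2, by omega⟩
    have h1 : (p ^ (j + j) + 1) % 4 = 0 := by rw [h, pow_add]; omega
    rw [pow_add, Nat.add_mod, Nat.mul_mod] at h1
    have h2 : p ^ j % 4 < 4 := Nat.mod_lt _ (by norm_num)
    interval_cases p ^ j % 4 <;> simp at h1
  · have key : ∀ j : ℕ, ∃ K : ℤ, Odd p → Odd K ∧ (p : ℤ) ^ (2 * j + 1) + 1 = (p + 1) * K := by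
      intro j
      induction j with
      | zero => exact ⟨1, fun _ => ⟨odd_one, by ring⟩⟩
      | succ j ih =>
        obtain ⟨K, hK⟩ := ih
        refine ⟨(p : ℤ) ^ 2 * K - ((p : ℤ) - 1), fun ho => ?_⟩
        obtain ⟨h1, h2⟩ := hK ho
        refine ⟨?_, ?_⟩
        · have hpz : Odd (p : ℤ) := Int.odd_coe_nat p |>.mpr ho
          exact (hpz.pow.mul h1).sub_even (hpz.sub_odd odd_one)
        · have : (p : ℤ) ^ (2 * (j + 1) + 1) = (p : ℤ) ^ 2 * (p : ℤ) ^ (2 * j + 1) := by ring
          rw [this]
          linear_combination (p : ℤ) ^ 2 * h2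
    have hodd : Odd p := hp.eq_two_or_odd'.resolve_left fun h2 => by
      subst h2
      have h3 : (2 ^ (2 * j + 1) + 1) % 2 = 1 := by simp [Nat.add_mod, Nat.pow_mod]
      rw [h, ← Nat.sub_add_cancel (by omega : 1 ≤ m), pow_succ] at h3
      omega
    obtain ⟨K, hK⟩ := key j
    obtain ⟨hKodd, hK'⟩ := hK hodd
    have hKdvd : K ∣ (2 : ℤ) ^ m := ⟨(p : ℤ) + 1, by
      have : (p : ℤ) ^ (2 * j + 1) + 1 = 2 ^ m := by exact_mod_cast h
      rw [← this, hK']; ring⟩
    have hK1 : K.natAbs = 1 := by
      have h1 : K.natAbs ∣ 2 ^ m := by simpa [Int.natAbs_pow] using Int.natAbs_dvd_natAbs.mpr hKdvd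
      obtain ⟨i, -, hi⟩ := (Nat.dvd_prime_pow Nat.prime_two).mp h1
      rcases Nat.eq_zero_or_pos i with rfl | hi0
      · simpa using hi
      · have h2 : Odd K.natAbs := Int.natAbs_odd.mpr hKodd
        rw [hi] at h2
        exact absurd h2 (by simp [parity_simps]; omega)
    by_contra hne
    have h3 : p ^ (2 * j + 1) + 1 = p + 1 := by
      have := congrArg Int.natAbs hK'
      rw [Int.natAbs_mul, hK1, mul_one] at this
      exact_mod_cast this
    have h4 : p ^ 1 < p ^ (2 * j + 1) := Nat.pow_lt_pow_right hp.one_lt (by omega)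
    rw [pow_one] at h4
    omega

end Cfsg.Agent.Lib.Singer
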